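import Groth.Agent.L06.FormSmoothHom
import Groth.Agent.L07.FlatGeomReduced
import Groth.Agent.L03.GeomReduced2
import Groth.Agent.L06.SepKaehler
import Groth.Agent.S9268
import Mathlib.RingTheory.Smooth.Locus
import Mathlib.RingTheory.TensorProduct.Quotient
import Mathlib.RingTheory.LocalRing.ResidueField.Fiber

/-!
Geometric regularity of the local ring of a fibre: transport along isomorphisms, geometric
reducedness of the fibre at the point, smoothness.
-/

set_option autoImplicit false
set_option linter.style.haveILetI false
set_option maxSynthPendingDepth 3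
universe u

namespace Groth.L05.SmoothUnivOpen

open IsLocalRing
open scoped TensorProduct

/-- Geometric regularity is transported along a semilinear isomorphism. -/
theorem geomRegular_semilinear {k k' F F' : Type u} [Field k] [Field k'] [CommRing F] [CommRing F'] [Algebra k F]
    [Algebra k' F'] (κ : k ≃+* k') (e : F ≃+* F') (h : ∀ a, e (algebraMap k F a) = algebraMap k' F' (κ a))
    (hF : CAlg.IsGeometricallyRegular k F) : CAlg.IsGeometricallyRegular k' F' := fun K _ _ hK => by
  haveI := hK
  letI : Algebra k k' := κ.toRingHom.toAlgebra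
  letI : Algebra k K := ((algebraMap k' K).comp κ.toRingHom).toAlgebra
  haveI : IsScalarTower k k' K := IsScalarTower.of_algebraMap_eq' rfl
  letI : Algebra k F' := ((algebraMap k' F').comp κ.toRingHom).toAlgebra
  haveI : IsScalarTower k k' F' := IsScalarTower.of_algebraMap_eq' rfl
  haveI : Module.Finite k k' := Module.Finite.of_surjective (Algebra.linearMap k k') κ.surjective
  haveI : Module.Finite k K := Module.Finite.trans k' K
  haveI : IsRegularRing (K ⊗[k] F) := hF K inferInstance
  let eA : F ≃ₐ[k] F' := AlgEquiv.ofRingEquiv (f := e) h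
  haveI : TensorProduct.CompatibleSMul k k' K F' := ⟨fun a x y => by
    obtain ⟨b, rfl⟩ := κ.surjective a
    have hb : (κ b : k') = algebraMap k k' b := rfl
    rw [hb, algebraMap_smul, algebraMap_smul, TensorProduct.smul_tmul]⟩
  exact IsRegularRing.of_ringEquiv ((Algebra.TensorProduct.congr (AlgEquiv.refl : K ≃ₐ[k] K) eA).toRingEquiv.trans
    (Algebra.TensorProduct.equivOfCompatibleSMul k' k K K F').toRingEquiv)

section Local

variable {A B : Type u} [CommRing A] [CommRing B] [Algebra A B] (p : Ideal A) [p.IsPrime] (q : Ideal B) [q.IsPrime]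

/-- The fibre ring of the localized map, in terms of any pair of rings isomorphic to the localizations. -/
theorem geomRegular_fibre_iff (hpq : p = q.comap (algebraMap A B)) {O O' : Type u} [CommRing O] [IsLocalRing O] [CommRing O']
    (φ : O →+* O') (e : O ≃+* Localization.AtPrime p) (e' : O' ≃+* Localization.AtPrime q)
    (h : ∀ a, e' (φ a) = Localization.localRingHom p q (algebraMap A B) hpq (e a)) :
    (letI : Algebra (ResidueField O) (O' ⧸ (maximalIdeal O).map φ) :=
      (Ideal.quotientMap ((maximalIdeal O).map φ) φ Ideal.le_comap_map).toAlgebra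
    CAlg.IsGeometricallyRegular (ResidueField O) (O' ⧸ (maximalIdeal O).map φ)) ↔
      CAlg.IsGeometricallyRegular p.ResidueField (p.Fiber (Localization.AtPrime q)) := by
  letI : Algebra (ResidueField O) (O' ⧸ (maximalIdeal O).map φ) :=
      (Ideal.quotientMap ((maximalIdeal O).map φ) φ Ideal.le_comap_map).toAlgebra
  let Ap := Localization.AtPrime p
  let Bq := Localization.AtPrime q
  let ℓ := Localization.localRingHom p q (algebraMap A B) hpq
  letI : Algebra Ap Bq := ℓ.toAlgebra
  haveI : IsScalarTower A Ap Bq := IsScalarTower.of_algebraMap_eq fun a => by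
    rw [IsScalarTower.algebraMap_apply A B Bq]
    exact (Localization.localRingHom_to_map p q (algebraMap A B) hpq a).symm
  let κ : ResidueField O ≃+* p.ResidueField := ResidueField.mapEquiv e
  have hmax : (maximalIdeal O).map (e : O →+* Ap) = maximalIdeal Ap :=
    IsLocalRing.eq_maximalIdeal (Ideal.map_isMaximal_of_equiv e)
  have hI : (maximalIdeal Ap).map (algebraMap Ap Bq) = ((maximalIdeal O).map φ).map (e' : O' →+* Bq) := by
    rw [← hmax, Ideal.map_map, Ideal.map_map]
    exact congrArg (fun g => Ideal.map g (maximalIdeal O)) (RingHom.ext fun a => (h a).symm)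
  let eI : (O' ⧸ (maximalIdeal O).map φ) ≃+* (Bq ⧸ (maximalIdeal Ap).map (algebraMap Ap Bq)) :=
    Ideal.quotientEquiv _ _ e' hI
  let eF : (O' ⧸ (maximalIdeal O).map φ) ≃+* p.ResidueField ⊗[Ap] Bq :=
    (eI.trans (Algebra.TensorProduct.quotIdealMapEquivTensorQuot Bq (maximalIdeal Ap)).toRingEquiv).trans
      (Algebra.TensorProduct.comm Ap Bq (Ap ⧸ maximalIdeal Ap)).toRingEquiv
  have key : ∀ a, eF (algebraMap (ResidueField O) _ a) = algebraMap p.ResidueField (p.ResidueField ⊗[Ap] Bq) (κ a) := by
    intro a
    obtain ⟨a, rfl⟩ := IsLocalRing.residue_surjective a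
    have h1 : eI (algebraMap (ResidueField O) _ (residue O a)) = Ideal.Quotient.mk _ (algebraMap Ap Bq (e a)) := by
      show Ideal.Quotient.mk _ (e' (φ a)) = _
      rw [h]; rfl
    refine (congrArg (fun z => (Algebra.TensorProduct.comm Ap Bq (Ap ⧸ maximalIdeal Ap))
      ((Algebra.TensorProduct.quotIdealMapEquivTensorQuot Bq (maximalIdeal Ap)) z)) h1).trans ?_
    rw [Algebra.TensorProduct.quotIdealMapEquivTensorQuot_mk, Algebra.TensorProduct.comm_tmul]
    rw [← mul_one (algebraMap Ap Bq (e a)), ← Algebra.smul_def, TensorProduct.tmul_smul, TensorProduct.smul_tmul']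
    show ((e a) • (1 : p.ResidueField)) ⊗ₜ[Ap] (1 : Bq) = (κ (residue O a)) ⊗ₜ[Ap] (1 : Bq)
    rw [Algebra.smul_def, mul_one]
    rfl
  constructor
  · intro hg
    exact Groth.L06.FormSmooth.geomRegular_congr (Groth.L06.FormSmooth.fibreLocEquiv p)
      (geomRegular_semilinear κ eF key hg)
  · intro hg
    refine geomRegular_semilinear κ.symm eF.symm (fun a => ?_)
      (Groth.L06.FormSmooth.geomRegular_congr (Groth.L06.FormSmooth.fibreLocEquiv p).symm hg)
    rw [RingEquiv.symm_apply_eq, key, RingEquiv.apply_symm_apply]

/-- The fibre is geometrically reduced at a point where it is geometrically regular. -/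
theorem geomRedAt_of_geomRegular (hpq : p = q.comap (algebraMap A B))
    (hg : CAlg.IsGeometricallyRegular p.ResidueField (p.Fiber (Localization.AtPrime q))) :
    Groth.L07.FlatGeomReduced.GeomRedAt A q := by
  intro L _ _ hL P hPp hP
  let BQ := Localization.AtPrime q
  let R1 := B ⊗[A] L
  letI : Algebra p.ResidueField L := (Ideal.ResidueField.lift p (algebraMap A L) (by rw [hL, hpq])
    (fun a ha => isUnit_iff_ne_zero.mpr fun h0 => ha (by
      have : a ∈ RingHom.ker (algebraMap A L) := h0
      rw [hL, ← hpq] at this
      exact this))).toAlgebra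
  haveI : IsScalarTower A p.ResidueField L := IsScalarTower.of_algebraMap_eq fun a =>
    (Ideal.ResidueField.lift_algebraMap _ _ _ _ a).symm
  haveI : Algebra.IsGeometricallyReduced p.ResidueField (p.Fiber BQ) :=
    Groth.L03.GeomReduced2.isGeometricallyReduced_of_purelyInseparable _ _ fun K _ _ _ _ => by
      haveI : IsRegularRing (K ⊗[p.ResidueField] p.Fiber BQ) := hg K inferInstance
      exact Groth.L06.SepKaehler.isReduced_of_regularRing _
  haveI : _root_.IsReduced (L ⊗[p.ResidueField] p.Fiber BQ) :=
    Groth.L03.GeomReduced2.isReduced_of_isGeometricallyReduced L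
  haveI : IsLocalization (Algebra.algebraMapSubmonoid R1 q.primeCompl) (R1 ⊗[B] BQ) :=
    IsLocalization.tensor (R := B) (S := R1) BQ q.primeCompl
  let T := R1 ⊗[B] BQ
  let eT : L ⊗[p.ResidueField] p.Fiber BQ ≃+* T :=
    ((Groth.L06.FibreComp.fibreEquivBase (B := BQ) p L).trans
      (Algebra.TensorProduct.cancelBaseChange A B B BQ L).toRingEquiv.symm).trans
      (Algebra.TensorProduct.comm B BQ R1).toRingEquiv
  haveI : _root_.IsReduced T := isReduced_of_injective eT.symm (RingEquiv.injective _)
  have hdisj : Disjoint (Algebra.algebraMapSubmonoid R1 q.primeCompl : Set R1) P := by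
    rw [Set.disjoint_left]
    rintro _ ⟨b, hb, rfl⟩ hbP
    refine hb ?_
    rw [← hP]
    exact hbP
  let P' := P.map (algebraMap R1 T)
  haveI : P'.IsPrime := IsLocalization.isPrime_of_isPrime_disjoint _ _ P inferInstance hdisj
  have hcomap : P'.comap (algebraMap R1 T) = P := IsLocalization.comap_map_of_isPrime_disjoint _ _ inferInstance hdisj
  haveI : IsLocalization.AtPrime (Localization.AtPrime P') P := by
    have h1 := IsLocalization.isLocalization_isLocalization_atPrime_isLocalization
      (Algebra.algebraMapSubmonoid R1 q.primeCompl) (Localization.AtPrime P') P'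
    simp only [IsLocalization.AtPrime, Ideal.primeCompl, hcomap] at h1 ⊢
    exact h1
  haveI : _root_.IsReduced (Localization.AtPrime P') := isReduced_localizationPreserves P'.primeCompl _ ‹_›
  exact isReduced_of_injective
    (IsLocalization.algEquiv P.primeCompl (Localization.AtPrime P) (Localization.AtPrime P')).toRingEquiv
    (RingEquiv.injective _)

/-- Smoothness at a prime, in terms of flatness and the fibre. -/
theorem exists_smooth_iff [IsNoetherianRing A] [Algebra.FiniteType A B] (hpq : p = q.comap (algebraMap A B)) :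
    (∃ g : B, g ∉ q ∧ Algebra.Smooth A (Localization.Away g)) ↔
      Module.Flat A (Localization.AtPrime q) ∧
        CAlg.IsGeometricallyRegular p.ResidueField (p.Fiber (Localization.AtPrime q)) := by
  subst hpq
  haveI : IsNoetherianRing B := Algebra.FiniteType.isNoetherianRing A B
  exact (Groth.Agent.S9268.result A B q).trans
    (Groth.L06.FormSmooth.adicSmooth_localization_iff A B _ q rfl)

end Local

end Groth.L05.SmoothUnivOpen
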