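import Groth.Agent.L05.SmoothUnivOpen.Algebra
import Groth.Agent.L05.SmoothCrit.LocalModelScheme
import Groth.Agent.L07.FlatGeomReducedScheme
import Groth.Agent.L07.UnivOpenAt
import Groth.Agent.L07.SectionCompOpen
import Groth.Agent.L19.SmoothLocus

/-!
Smoothness near a point, universal openness along the fibre and geometric regularity of the fibre.
-/

universe u

open CategoryTheory CategoryTheory.Limits AlgebraicGeometry

namespace Groth.L05.SmoothUnivOpen

set_option autoImplicit false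
set_option linter.style.haveILetI false
set_option maxSynthPendingDepth 3
set_option backward.isDefEq.respectTransparency.types false
set_option backward.isDefEq.respectTransparency false

/-- Smoothness near a point implies universal openness at the points of a neighbourhood. -/
theorem univOpenAt_of_smooth {X Y : Scheme.{u}} (f : X ⟶ Y) (U : X.Opens) [Smooth (U.ι ≫ f)]
    (x : X) (hx : x ∈ U) : EGA43.IsUnivOpenAt f x := by
  obtain ⟨w, rfl⟩ : x ∈ Set.range U.ι := by rw [U.range_ι]; exact hx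
  exact Groth.L07.UnivOpenAt.right_of_comp (Groth.L07.SectionComp.isUnivOpenAt_of_universallyOpen (U.ι ≫ f) w)

variable {X Y : Scheme.{u}} (f : X ⟶ Y) (x : X) {V : Y.Opens} (hV : IsAffineOpen V) {W : X.Opens}
  (hW : IsAffineOpen W) (e : W ≤ f ⁻¹ᵁ V) (hxW : x ∈ W) [Algebra Γ(Y, V) Γ(X, W)]
  (halg : algebraMap Γ(Y, V) Γ(X, W) = (f.appLE V W e).hom)

include halg in
theorem comap_eq : (hV.primeIdealOf ⟨f x, e hxW⟩).asIdeal =
    (hW.primeIdealOf ⟨x, hxW⟩).asIdeal.comap (algebraMap Γ(Y, V) Γ(X, W)) := by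
  rw [halg]
  exact congr($(IsAffineOpen.comap_primeIdealOf_appLE V hV W hW e hxW).1).symm

include hV halg in
/-- The geometric regularity of the fibre in an affine chart. -/
theorem geomRegular_chart_iff :
    (letI φ := (f.stalkMap x).hom
    letI 𝔪 := IsLocalRing.maximalIdeal ↑(Y.presheaf.stalk (f.base x))
    letI : Algebra (IsLocalRing.ResidueField ↑(Y.presheaf.stalk (f.base x))) (↑(X.presheaf.stalk x) ⧸ 𝔪.map φ) :=
      (Ideal.quotientMap (𝔪.map φ) φ Ideal.le_comap_map).toAlgebra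
    CAlg.IsGeometricallyRegular (IsLocalRing.ResidueField ↑(Y.presheaf.stalk (f.base x)))
      (↑(X.presheaf.stalk x) ⧸ 𝔪.map φ)) ↔
      CAlg.IsGeometricallyRegular (hV.primeIdealOf ⟨f x, e hxW⟩).asIdeal.ResidueField
        ((hV.primeIdealOf ⟨f x, e hxW⟩).asIdeal.Fiber (Localization.AtPrime (hW.primeIdealOf ⟨x, hxW⟩).asIdeal)) := by
  let i := IsAffineOpen.arrowStalkMapIso f V hV W hW e hxW
  refine geomRegular_fibre_iff _ _ (comap_eq f x hV hW e hxW halg) (f.stalkMap x).hom
    (Arrow.leftFunc.mapIso i).commRingCatIsoToRingEquiv (Arrow.rightFunc.mapIso i).commRingCatIsoToRingEquiv fun a => ?_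
  have h := congr($(Arrow.w i.hom).hom a)
  simp only [halg]
  exact h.symm

include hV halg in
/-- The smooth criterion in an affine chart. -/
theorem mem_smoothLocus_iff [IsNoetherianRing Γ(Y, V)] [Algebra.FiniteType Γ(Y, V) Γ(X, W)]
    [LocallyOfFinitePresentation f] :
    x ∈ f.smoothLocus ↔
      Module.Flat Γ(Y, V) (Localization.AtPrime (hW.primeIdealOf ⟨x, hxW⟩).asIdeal) ∧
      CAlg.IsGeometricallyRegular (hV.primeIdealOf ⟨f x, e hxW⟩).asIdeal.ResidueField
        ((hV.primeIdealOf ⟨f x, e hxW⟩).asIdeal.Fiber (Localization.AtPrime (hW.primeIdealOf ⟨x, hxW⟩).asIdeal)) := by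
  haveI : Algebra.FinitePresentation Γ(Y, V) Γ(X, W) := Algebra.FinitePresentation.of_finiteType.mp ‹_›
  rw [← exists_smooth_iff _ _ (comap_eq f x hV hW e hxW halg), Scheme.Hom.mem_smoothLocus,
    formallySmooth_stalkMap_iff V hV W hW e hxW]
  have hA : (f.appLE V W e).hom.toAlgebra = ‹Algebra Γ(Y, V) Γ(X, W)› :=
    Algebra.algebra_ext _ _ fun a => (RingHom.congr_fun halg a).symm
  rw [hA]
  constructor
  · intro h
    haveI : Algebra.IsSmoothAt Γ(Y, V) (hW.primeIdealOf ⟨x, hxW⟩).asIdeal := h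
    exact Algebra.IsSmoothAt.exists_notMem_smooth Γ(Y, V) (hW.primeIdealOf ⟨x, hxW⟩).asIdeal
  · rintro ⟨g, hg, hs⟩
    exact Algebra.basicOpen_subset_smoothLocus_iff_smooth.mpr hs
      (show hW.primeIdealOf ⟨x, hxW⟩ ∈ PrimeSpectrum.basicOpen g from hg)

omit x in
/-- The universally open, geometrically regular criterion of smoothness. -/
theorem smooth_nhd_iff [IsLocallyNoetherian Y] [LocallyOfFiniteType f] (x : X)
    (hred : _root_.IsReduced (Y.presheaf.stalk (f.base x))) :
    letI φ := (f.stalkMap x).hom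
    letI 𝔪 := IsLocalRing.maximalIdeal ↑(Y.presheaf.stalk (f.base x))
    letI : Algebra (IsLocalRing.ResidueField ↑(Y.presheaf.stalk (f.base x))) (↑(X.presheaf.stalk x) ⧸ 𝔪.map φ) :=
      (Ideal.quotientMap (𝔪.map φ) φ Ideal.le_comap_map).toAlgebra
    (∃ U : X.Opens, x ∈ U ∧ Smooth (U.ι ≫ f)) ↔
      (∀ z : ↥(f.fiber (f.base x)), f.asFiber x ∈ closure {z} →
        (∀ z' : ↥(f.fiber (f.base x)), z ∈ closure {z'} → z' = z) →
        EGA43.IsUnivOpenAt f ((f.fiberι (f.base x)).base z)) ∧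
      CAlg.IsGeometricallyRegular (IsLocalRing.ResidueField ↑(Y.presheaf.stalk (f.base x)))
        (↑(X.presheaf.stalk x) ⧸ 𝔪.map φ) := by
  haveI : LocallyOfFinitePresentation f := Groth.L05.SmoothCrit.lfp_of_noetherian f
  obtain ⟨V, hV, hyV, -⟩ := exists_isAffineOpen_mem_and_subset (X := Y) (x := f x) (U := ⊤) trivial
  obtain ⟨W, hW, hxW, e⟩ := exists_isAffineOpen_mem_and_subset (X := X) (x := x) (U := f ⁻¹ᵁ V) hyV
  replace e : W ≤ f ⁻¹ᵁ V := e
  haveI : IsNoetherianRing Γ(Y, V) := IsLocallyNoetherian.component_noetherian ⟨V, hV⟩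
  letI := (f.appLE V W e).hom.toAlgebra
  have halg : algebraMap Γ(Y, V) Γ(X, W) = (f.appLE V W e).hom := rfl
  haveI : Algebra.FiniteType Γ(Y, V) Γ(X, W) := RingHom.finiteType_algebraMap.mp (f.finiteType_appLE hV hW e)
  rw [geomRegular_chart_iff f x hV hW e hxW halg]
  constructor
  · rintro ⟨U, hxU, hU⟩
    refine ⟨fun z hz _ => univOpenAt_of_smooth f U _ ?_,
      ((mem_smoothLocus_iff f x hV hW e hxW halg).mp ((Groth.L19.SmoothLocus.mem_iff_nhd f x).mpr ⟨U, hxU, hU⟩)).2⟩
    have := (specializes_iff_mem_closure.mpr hz).map (f.fiberι (f.base x)).continuous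
    rw [f.fiberι_asFiber] at this
    exact this.mem_open U.2 hxU
  · rintro ⟨hopen, hg⟩
    refine (Groth.L19.SmoothLocus.mem_iff_nhd f x).mp ((mem_smoothLocus_iff f x hV hW e hxW halg).mpr ⟨?_, hg⟩)
    let p := (hV.primeIdealOf ⟨f x, e hxW⟩).asIdeal
    let 𝔮 := (hW.primeIdealOf ⟨x, hxW⟩).asIdeal
    have hpq := comap_eq f x hV hW e hxW halg
    haveI : _root_.IsReduced (Localization.AtPrime (𝔮.comap (algebraMap Γ(Y, V) Γ(X, W)))) := by
      refine Groth.L07.FlatGeomReduced.isReduced_congr hpq ?_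
      letI := Y.presheaf.algebra_section_stalk ⟨f x, e hxW⟩
      haveI : IsLocalization.AtPrime (Y.presheaf.stalk (f x)) p := hV.isLocalization_stalk ⟨f x, e hxW⟩
      haveI : _root_.IsReduced (Y.presheaf.stalk (f x)) := hred
      exact isReduced_of_injective (IsLocalization.algEquiv p.primeCompl (Localization.AtPrime p)
        (Y.presheaf.stalk (f x))).toRingEquiv (RingEquiv.injective _)
    exact Groth.L07.FlatGeomReduced.flat_of_geomReduced (R := Γ(Y, V)) 𝔮 (geomRedAt_of_geomRegular p 𝔮 hpq hg)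
      fun 𝔷 _ hle h𝔷 hgen B _ _ _ _ P hP _ =>
        Groth.L07.FlatGeomReduced.isOpenAt_chart f x hV hW e hxW halg hopen 𝔷 hle h𝔷 hgen B P hP

end Groth.L05.SmoothUnivOpen
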